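import Cfsg.Agent.H508.KB.Defs
import Cfsg.Agent.H978.Alm.Nonab
import Cfsg.Agent.H53.HC.Mackey
import Cfsg.Agent.H693.Defl
import Cfsg.Agent.OddOrderCharacters.InducedSum

/-!
# S4822, T1b3 and T1b4: characters induced from the normalizer of a component (helper246)
-/

set_option autoImplicit false
set_option linter.unusedSectionVars false

open Cfsg Subgroup Cfsg.Agent.H508.KB
open Cfsg.Agent.Lib.MinNormalNonabelian Cfsg.Agent.H531.LemX Cfsg.Agent.H531.Red
open scoped ComplexConjugate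

namespace Cfsg.Agent.H246.KB.Ind

open Cfsg.Agent.H978.Alm.Nonab Cfsg.Agent.H53.HC
open Cfsg.Agent.OddOrderCharacters.Clifford Cfsg.Agent.Characters

universe u

attribute [local instance] act

variable {G : Type u} [Group G] [Finite G] {N : Subgroup G} [N.Normal] {T : minSet N} {A : Type u} [Group A] [Finite A]
  {π : ↥(normalizer (T.1 : Set G)) →* A}

/-- the sum over the image of `T` -/
theorem sum_im (D : Dat N T π) {ψ : A → ℂ} (hψi : IsIrrCharacter A ψ) (hψ : ¬ ∀ s ∈ Im π, ψ s = ψ 1)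
    [Fintype (Im π)] : ∑ s : Im π, ψ s = 0 := by
  classical
  have hn := D.im_normal
  have : Fintype A := Fintype.ofFinite A
  rcases Cfsg.Agent.OddOrderCharacters.InducedSum.ker_or_sum_eq_zero hψi (Im π)
    (Finset.univ.filter (fun x => x ∈ Im π)) (fun x => by simp) with h | h
  · exact absurd h hψ
  · rw [← h]
    exact (Finset.sum_subtype _ (fun x => by simp) _).symm

/-- the Mackey terms vanish -/
theorem twist_zero (D : Dat N T π) [Fintype ↥(normalizer (T.1 : Set G))] {ψ ψ' : A → ℂ} (hψi : IsIrrCharacter A ψ)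
    (hψi' : IsIrrCharacter A ψ') (hψ : ¬ ∀ s ∈ Im π, ψ s = ψ 1) (x : G) (hx : x ∉ normalizer (T.1 : Set G)) :
    twist (normalizer (T.1 : Set G)) (fun u => ψ (π u)) (fun u => ψ' (π u)) x = 0 := by
  classical
  have hc : IsCharacter _ (fun u => ψ (π u)) := Core.isCharacter_comp π (Core.isIrr_isCharacter hψi)
  have hc' : IsCharacter _ (fun u => ψ' (π u)) := Core.isCharacter_comp π (Core.isIrr_isCharacter hψi')
  have hxT : x⁻¹ • T ≠ T := by
    intro h
    apply hx
    rw [← mem_normalizer_iff_smul]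
    exact (inv_smul_eq_iff.1 h).symm
  have hmem : ∀ l ∈ T.1, x⁻¹ * l * x ∈ (x⁻¹ • T).1 := by
    intro l hl
    rw [Cfsg.Agent.H531.LemX.smul_coe]
    exact ⟨l, hl, by simp⟩
  have hle : ∀ V : minSet N, V.1 ≤ normalizer (T.1 : Set G) := fun V => V.2.1.trans le_norm
  have : Fintype T.1 := Fintype.ofFinite _
  have : Fintype (Im π) := Fintype.ofFinite _
  refine twist_eq_zero_of_sub _ hc hc' x T.1 le_normalizer (fun l hl => hle _ (hmem l hl)) ?_
  have h1 : ∀ l : T.1, π ⟨x⁻¹ * l * x, hle _ (hmem l l.2)⟩ = 1 := by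
    intro l
    rw [D.ker]
    exact fun s hs => D.str.comm _ _ hxT _ (hmem l l.2) s hs
  simp only [h1]
  rw [← Finset.sum_mul]
  obtain ⟨e, he⟩ : ∃ e : T.1 ≃ Im π, ∀ l : T.1, (e l : A) = π ⟨l, le_normalizer l.2⟩ := by
    refine ⟨Equiv.ofBijective (fun l => ⟨π ⟨l, le_normalizer l.2⟩, D.mem_map.2 ⟨l, l.2, rfl⟩⟩) ⟨?_, ?_⟩, fun l => rfl⟩
    · intro a b hab
      have h2 : π ⟨a, le_normalizer a.2⟩ = π ⟨b, le_normalizer b.2⟩ := congrArg Subtype.val hab
      have h3 : π ⟨(a : G) * (b : G)⁻¹, le_normalizer (mul_mem a.2 (inv_mem b.2))⟩ = 1 := by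
        have h4 : (⟨(a : G) * (b : G)⁻¹, le_normalizer (mul_mem a.2 (inv_mem b.2))⟩ : ↥(normalizer (T.1 : Set G))) =
            ⟨a, le_normalizer a.2⟩ * ⟨b, le_normalizer b.2⟩⁻¹ := rfl
        rw [h4, map_mul, map_inv, h2, mul_inv_cancel]
      exact Subtype.ext (mul_inv_eq_one.1 (D.inj (mul_mem a.2 (inv_mem b.2)) h3))
    · rintro ⟨b, hb⟩
      obtain ⟨s, hs, rfl⟩ := D.mem_map.1 hb
      exact ⟨⟨s, hs⟩, rfl⟩
  have h5 : ∑ l : T.1, ψ (π ⟨l, le_normalizer l.2⟩) = ∑ s : Im π, ψ s :=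
    Fintype.sum_equiv e _ _ fun l => by rw [he]
  rw [h5, sum_im D hψi hψ, zero_mul]

/-- the homomorphism `N → Im π` -/
noncomputable def toIm (D : Dat N T π) : N →* Im π where
  toFun n := ⟨π ⟨n, le_norm n.2⟩, D.map_of_mem n.2⟩
  map_one' := Subtype.ext (map_one π)
  map_mul' a b := Subtype.ext (map_mul π ⟨a, le_norm a.2⟩ ⟨b, le_norm b.2⟩)

theorem toIm_surj (D : Dat N T π) : Function.Surjective (toIm D) := by
  rintro ⟨b, hb⟩
  obtain ⟨s, hs, rfl⟩ := D.mem_map.1 hb
  exact ⟨⟨s, T.2.1 hs⟩, rfl⟩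

/-- T1b3: the characters induced from `N_G(T)` (Clifford) -/
theorem exists_ind (D : Dat N T π) (ψ : IrrCharacter A) (hψ : ¬ ∀ s ∈ Im π, (ψ : A → ℂ) s = (ψ : A → ℂ) 1) :
    ∃ χ : IrrCharacter G, NT N χ 1 ∧
      (χ : G → ℂ) = @indFun G _ (Fintype.ofFinite G) (normalizer (T.1 : Set G)) (fun u => (ψ : A → ℂ) (π u)) := by
  classical
  let _ : Fintype G := Fintype.ofFinite G
  let _ : Fintype A := Fintype.ofFinite A
  let _ : Fintype N := Fintype.ofFinite N
  let _ : Fintype (Im π) := Fintype.ofFinite _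
  let _ : Fintype ↥(normalizer (T.1 : Set G)) := Fintype.ofFinite _
  have hi : IsIrrCharacter _ (fun u => (ψ : A → ℂ) (π u)) := Core.isIrr_comp π D.surj ψ.2
  have hχ : IsIrrCharacter G (indFun (normalizer (T.1 : Set G)) (fun u => (ψ : A → ℂ) (π u))) := by
    rw [Core.isIrr_iff_classInner_self (Cfsg.Agent.S0148.result _ _ (Core.isIrr_isCharacter hi))]
    rw [classInner_indFun_eq _ _ _ (Core.isIrr_isClassFunction hi)]
    · exact Core.classInner_irr_self hi
    · exact fun x hx => twist_zero D ψ.2 ψ.2 hψ x hx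
  refine ⟨⟨_, hχ⟩, ?_, rfl⟩
  -- the constituent
  have hr : IsCharacter (Im π) (fun s => (ψ : A → ℂ) s) :=
    Core.isCharacter_comp (Im π).subtype (Core.isIrr_isCharacter ψ.2)
  have hr0 : classInner (fun s : Im π => (ψ : A → ℂ) s) (fun s : Im π => (ψ : A → ℂ) s) ≠ 0 := by
    intro h
    have h1 := congrFun (Core.classInner_self_eq_zero h) 1
    exact Core.isIrr_apply_one_ne_zero ψ.2 h1
  obtain ⟨θ₀, hθ₀, hc, -⟩ := exists_common hr hr hr0
  have hθ₀1 : θ₀ ≠ 1 := by
    rintro rfl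
    apply hc
    rw [classInner_apply]
    simp only [Pi.one_apply, map_one, mul_one]
    rw [sum_im D ψ.2 hψ, mul_zero]
  have hθ : IsIrrCharacter N (fun n => θ₀ (toIm D n)) := Core.isIrr_comp (toIm D) (toIm_surj D) hθ₀
  have hns : ∃ s : Im π, θ₀ s ≠ θ₀ 1 := by
    by_contra hall
    push Not at hall
    have h1 := Core.classInner_irr_ne hθ₀ Core.isIrr_one hθ₀1
    rw [classInner_apply] at h1
    simp only [hall, Pi.one_apply, map_one, mul_one, Finset.sum_const, Finset.card_univ, nsmul_eq_mul] at h1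
    rcases mul_eq_zero.1 h1 with h | h
    · exact inv_ne_zero card_ne_zero' h
    · rcases mul_eq_zero.1 h with h | h
      · rw [← Nat.card_eq_fintype_card] at h
        exact card_ne_zero' h
      · exact Core.isIrr_apply_one_ne_zero hθ₀ h
  refine ⟨⟨_, hθ⟩, ?_, ?_⟩
  · rw [over_iff]
    -- `χ|_U - ψπ` is a character
    have hcU : IsCharacter ↥(normalizer (T.1 : Set G)) (fun u =>
        indFun (normalizer (T.1 : Set G)) (fun u => (ψ : A → ℂ) (π u)) (u : G)) :=
      Core.isCharacter_comp (normalizer (T.1 : Set G)).subtype (Core.isIrr_isCharacter hχ)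
    have h1 : classInner (fun u : ↥(normalizer (T.1 : Set G)) =>
        indFun (normalizer (T.1 : Set G)) (fun u => (ψ : A → ℂ) (π u)) (u : G)) (fun u => (ψ : A → ℂ) (π u)) ≠ 0 := by
      rw [← Core.classInner_conj_symm, ← classInner_indFun _ _ _ (Core.isIrr_isClassFunction hχ),
        Core.classInner_irr_self hχ, map_one]
      exact one_ne_zero
    have h2 := isCharacter_sub_irr hcU hi h1
    let inc : N →* ↥(normalizer (T.1 : Set G)) := Subgroup.inclusion le_norm
    have h3 : IsCharacter N (_ ∘ inc) := Core.isCharacter_comp inc h2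
    have h4 : IsCharacter N ((fun u => (ψ : A → ℂ) (π u)) ∘ inc) :=
      Core.isCharacter_comp inc (Core.isIrr_isCharacter hi)
    have e : (fun n : N => indFun (normalizer (T.1 : Set G)) (fun u => (ψ : A → ℂ) (π u)) (n : G)) =
        ((fun u => (ψ : A → ℂ) (π u)) ∘ inc) + (((fun u : ↥(normalizer (T.1 : Set G)) =>
        indFun (normalizer (T.1 : Set G)) (fun u => (ψ : A → ℂ) (π u)) (u : G)) - (fun u => (ψ : A → ℂ) (π u))) ∘ inc) := by
      funext n
      simp [inc]
    show classInner (fun n : N => indFun (normalizer (T.1 : Set G)) (fun u => (ψ : A → ℂ) (π u)) (n : G))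
      (fun n => θ₀ (toIm D n)) ≠ 0
    rw [e, Core.classInner_add_left]
    have h5 : classInner ((fun u => (ψ : A → ℂ) (π u)) ∘ inc) (fun n => θ₀ (toIm D n)) ≠ 0 := by
      have h6 := Cfsg.Agent.H693.Defl.classInner_comp_surj (toIm D) (toIm_surj D) (fun s : Im π => (ψ : A → ℂ) s) θ₀
      intro h7
      exact hc (h6.symm.trans h7)
    obtain ⟨a, ha⟩ := Core.classInner_isNat h4 (Core.isIrr_isCharacter hθ)
    obtain ⟨b, hb⟩ := Core.classInner_isNat h3 (Core.isIrr_isCharacter hθ)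
    rw [ha] at h5 ⊢
    rw [hb]
    intro h7
    apply h5
    have h8 : a + b = 0 := by exact_mod_cast h7
    have h9 : a = 0 := by omega
    rw [h9, Nat.cast_zero]
  · have key : ∀ V : minSet N, (∃ n : N, (n : G) ∈ V.1 ∧ θ₀ (toIm D n) ≠ θ₀ (toIm D 1)) ↔ V = T := by
      intro V
      constructor
      · rintro ⟨n, hn, h⟩
        by_contra hVT
        apply h
        rw [map_one]
        congr 1
        apply Subtype.ext
        show π ⟨n, le_norm n.2⟩ = 1
        rw [D.ker]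
        exact fun s hs => D.str.comm _ _ hVT _ hn s hs
      · rintro rfl
        obtain ⟨⟨b, hb⟩, h⟩ := hns
        obtain ⟨s, hs, rfl⟩ := D.mem_map.1 hb
        refine ⟨⟨s, V.2.1 hs⟩, hs, ?_⟩
        rw [map_one]
        exact h
    have h1 : Nat.card {V : minSet N // ∃ n : N, (n : G) ∈ V.1 ∧ θ₀ (toIm D n) ≠ θ₀ (toIm D 1)} =
        Nat.card {V : minSet N // V = T} := Nat.card_congr (Equiv.subtypeEquivRight key)
    show Nat.card {V : minSet N // ∃ n : N, (n : G) ∈ V.1 ∧ θ₀ (toIm D n) ≠ θ₀ (toIm D 1)} = 1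
    rw [h1]
    exact Nat.card_unique

/-- T1b4 -/
theorem ind_inj (D : Dat N T π) (ψ ψ' : IrrCharacter A) (hψ : ¬ ∀ s ∈ Im π, (ψ : A → ℂ) s = (ψ : A → ℂ) 1)
    (hψ' : ¬ ∀ s ∈ Im π, (ψ' : A → ℂ) s = (ψ' : A → ℂ) 1)
    (h : @indFun G _ (Fintype.ofFinite G) (normalizer (T.1 : Set G)) (fun u => (ψ : A → ℂ) (π u)) =
      @indFun G _ (Fintype.ofFinite G) (normalizer (T.1 : Set G)) (fun u => (ψ' : A → ℂ) (π u))) : ψ = ψ' := by
  classical
  let _ : Fintype G := Fintype.ofFinite G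
  let _ : Fintype A := Fintype.ofFinite A
  let _ : Fintype ↥(normalizer (T.1 : Set G)) := Fintype.ofFinite _
  have hi : IsIrrCharacter _ (fun u => (ψ : A → ℂ) (π u)) := Core.isIrr_comp π D.surj ψ.2
  have hi' : IsIrrCharacter _ (fun u => (ψ' : A → ℂ) (π u)) := Core.isIrr_comp π D.surj ψ'.2
  by_contra hne
  have h1 : classInner (indFun (normalizer (T.1 : Set G)) (fun u => (ψ : A → ℂ) (π u)))
      (indFun (normalizer (T.1 : Set G)) (fun u => (ψ' : A → ℂ) (π u))) =
      classInner (fun u => (ψ : A → ℂ) (π u)) (fun u => (ψ' : A → ℂ) (π u)) :=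
    classInner_indFun_eq _ _ _ (Core.isIrr_isClassFunction hi') fun x hx => twist_zero D ψ.2 ψ'.2 hψ x hx
  have h2 : classInner (indFun (normalizer (T.1 : Set G)) (fun u => (ψ' : A → ℂ) (π u)))
      (indFun (normalizer (T.1 : Set G)) (fun u => (ψ' : A → ℂ) (π u))) =
      classInner (fun u => (ψ' : A → ℂ) (π u)) (fun u => (ψ' : A → ℂ) (π u)) :=
    classInner_indFun_eq _ _ _ (Core.isIrr_isClassFunction hi') fun x hx => twist_zero D ψ'.2 ψ'.2 hψ' x hx
  have h3 : classInner (fun u : ↥(normalizer (T.1 : Set G)) => (ψ : A → ℂ) (π u)) (fun u => (ψ' : A → ℂ) (π u)) = 0 := by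
    apply Core.classInner_irr_ne hi hi'
    intro he
    apply hne
    apply Subtype.ext
    funext a
    obtain ⟨u, rfl⟩ := D.surj a
    exact congrFun he u
  have h : indFun (normalizer (T.1 : Set G)) (fun u => (ψ : A → ℂ) (π u)) =
    indFun (normalizer (T.1 : Set G)) (fun u => (ψ' : A → ℂ) (π u)) := h
  rw [h, h2, h3, Core.classInner_irr_self hi'] at h1
  exact one_ne_zero h1

end Cfsg.Agent.H246.KB.Ind
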